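import Mathlib

/-!
# Sections of flat quasi-finite algebras lie in images of ideals

`R → B` flat, finitely presented and quasi-finite, `g ∈ B`. After localising `R` without killing `g`, there is
a finitely generated ideal `J` killing `g` with `B/JB` finite free over `R/J`; then `g` is in the image of an
injective map `F^r → B` with `F` the annihilator of `J`.
-/

universe u

namespace Groth.Agent.SectTF

open TensorProduct Polynomial

section Descend

variable {R₀ B₀ : Type u} [CommRing R₀] [CommRing B₀] [Algebra R₀ B₀]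

/-- Algebraicity at a minimal prime over `J₀`, with leading coefficient outside the prime. -/
theorem exists_poly_aeval_mem (p₀ J₀ : Ideal R₀) [p₀.IsPrime] (hmin : p₀ ∈ J₀.minimalPrimes)
    [Module.Finite p₀.ResidueField (p₀.Fiber B₀)] (x : B₀) :
    ∃ P : R₀[X], P.leadingCoeff ∉ p₀ ∧ aeval x P ∈ J₀.map (algebraMap R₀ B₀) := by
  classical
  -- a relation in the fibre
  let n := Module.finrank p₀.ResidueField (p₀.Fiber B₀)
  let v : Fin (n + 1) → p₀.Fiber B₀ := fun i => (1 : p₀.ResidueField) ⊗ₜ[R₀] (x ^ (i : ℕ))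
  have hdep : ¬ LinearIndependent p₀.ResidueField v := fun h => by
    have := h.fintype_card_le_finrank
    simp [n] at this
  haveI : IsScalarTower (R₀ ⧸ p₀) p₀.ResidueField (p₀.Fiber B₀) := inferInstance
  rw [← LinearIndependent.iff_fractionRing (R₀ ⧸ p₀)] at hdep
  obtain ⟨c, hc, i₁, hi₁⟩ := Fintype.not_linearIndependent_iff.mp hdep
  choose a ha using fun i => Ideal.Quotient.mk_surjective (c i)
  have hne : (Finset.univ.filter fun i => a i ∉ p₀).Nonempty :=
    ⟨i₁, by simpa using fun h => hi₁ (by rw [← ha, Ideal.Quotient.eq_zero_iff_mem.mpr h])⟩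
  let i₀ := (Finset.univ.filter fun i => a i ∉ p₀).max' hne
  have hi₀ : a i₀ ∉ p₀ := (Finset.mem_filter.mp (Finset.max'_mem _ hne)).2
  let P : R₀[X] := ∑ i ∈ Finset.Iic i₀, monomial (i : ℕ) (a i)
  have hcoef : P.coeff (i₀ : ℕ) = a i₀ := by
    simp only [P, finset_sum_coeff, coeff_monomial]
    rw [Finset.sum_eq_single i₀ (fun i _ h => if_neg fun h' => h (Fin.ext h')) (by simp)]
    simp
  have hdeg : P.natDegree ≤ (i₀ : ℕ) := by
    refine natDegree_sum_le_of_forall_le _ _ fun i hi => ?_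
    exact (natDegree_monomial_le _).trans (Fin.le_def.mp (Finset.mem_Iic.mp hi))
  have hlc : P.leadingCoeff = a i₀ := by
    have hd : P.natDegree = i₀ := le_antisymm hdeg (le_natDegree_of_ne_zero (by
      rw [hcoef]; exact fun h => hi₀ (h ▸ zero_mem _)))
    rw [leadingCoeff, hd, hcoef]
  have h0 : (1 : p₀.ResidueField) ⊗ₜ[R₀] aeval x P = 0 := by
    rw [← hc, ← Finset.sum_subset (Finset.subset_univ (Finset.Iic i₀))]
    · simp only [P, map_sum, aeval_monomial, tmul_sum, ← Algebra.smul_def, tmul_smul, v]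
      refine Finset.sum_congr rfl fun i _ => ?_
      rw [← ha, ← Ideal.Quotient.algebraMap_eq, algebraMap_smul]
    · intro i _ hi
      have : a i ∈ p₀ := by
        by_contra h
        exact hi (Finset.mem_Iic.mpr (Finset.le_max' _ i (by simpa using h)))
      rw [← ha, Ideal.Quotient.eq_zero_iff_mem.mpr this, zero_smul]
  -- pull it down
  let T := Algebra.algebraMapSubmonoid B₀ p₀.primeCompl
  let S := Localization T
  have h1 : algebraMap B₀ S (aeval x P) ∈ (p₀.map (algebraMap R₀ B₀)).map (algebraMap B₀ S) := by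
    letI : Algebra B₀ (p₀.Fiber B₀) := Algebra.TensorProduct.rightAlgebra
    rw [← Ideal.Quotient.eq_zero_iff_mem]
    have := (Ideal.Fiber.algEquivAux₁ (S := B₀) p₀).commutes (aeval x P)
    rw [show algebraMap B₀ (p₀.Fiber B₀) (aeval x P) = (1 : p₀.ResidueField) ⊗ₜ[R₀] aeval x P from rfl, h0,
      map_zero] at this
    exact this.symm
  have h2 : p₀.map (algebraMap R₀ S) ≤ ((J₀.map (algebraMap R₀ S))).radical := by
    rw [Ideal.map_le_iff_le_comap]
    intro b hb
    obtain ⟨d, hd, N, hN⟩ : ∃ d ∉ p₀, ∃ N : ℕ, d * b ^ N ∈ J₀ := by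
      by_contra hcon
      push Not at hcon
      obtain ⟨q, hq, hJq, hdis⟩ := Ideal.exists_le_prime_disjoint J₀ (p₀.primeCompl ⊔ Submonoid.powers b)
        (Set.disjoint_left.mpr fun z hz hz' => by
          obtain ⟨d, hd, _, ⟨N, rfl⟩, rfl⟩ := Submonoid.mem_sup.mp hz'
          exact hcon d hd N hz)
      have hqp : q ≤ p₀ := fun z hz => by_contra fun hzp =>
        Set.disjoint_left.mp hdis hz ((le_sup_left : p₀.primeCompl ≤ _) hzp)
      exact Set.disjoint_left.mp hdis (hmin.2 ⟨hq, hJq⟩ hqp hb)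
        ((le_sup_right : Submonoid.powers b ≤ _) (Submonoid.mem_powers b))
    refine ⟨N, ?_⟩
    have hu : IsUnit (algebraMap R₀ S d) := by
      rw [IsScalarTower.algebraMap_apply R₀ B₀ S]
      exact IsLocalization.map_units S (⟨_, d, hd, rfl⟩ : T)
    rw [← map_pow, ← Ideal.unit_mul_mem_iff_mem _ hu, ← map_mul]
    exact Ideal.mem_map_of_mem _ hN
  have h3 : algebraMap B₀ S (aeval x P) ∈ ((J₀.map (algebraMap R₀ B₀)).map (algebraMap B₀ S)).radical := by
    rw [Ideal.map_map, ← IsScalarTower.algebraMap_eq] at h1 ⊢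
    exact h2 h1
  obtain ⟨N, hN⟩ := h3
  rw [← map_pow] at hN
  obtain ⟨_, ⟨d, hd, rfl⟩, hdN⟩ := (IsLocalization.algebraMap_mem_map_algebraMap_iff T S _ _).mp hN
  refine ⟨C d * P ^ N, ?_, by simpa using hdN⟩
  have hne : d * a i₀ ^ N ∉ p₀ := fun h =>
    (‹p₀.IsPrime›.mem_or_mem h).elim hd fun h' => hi₀ (‹p₀.IsPrime›.mem_of_pow_mem _ h')
  have hne0 : d * a i₀ ^ N ≠ 0 := fun h => hne (h ▸ zero_mem _)
  have hpw : (P ^ N).leadingCoeff = a i₀ ^ N := by
    rw [leadingCoeff_pow', hlc]
    rw [hlc]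
    exact fun h => hne0 (by rw [h, mul_zero])
  rw [leadingCoeff_mul', leadingCoeff_C, hpw]
  · exact hne
  · rw [leadingCoeff_C, hpw]; exact hne0

end Descend

variable {R B : Type u} [CommRing R] [CommRing B] [Algebra R B]

/-- A finitely generated ideal killing `g`, with bounded relations of invertible leading coefficient. -/
theorem exists_ideal_and_polys [Algebra.FinitePresentation R B] [Algebra.QuasiFinite R B] (g : B) (hg : g ≠ 0) :
    ∃ (J : Ideal R) (u : R), J.FG ∧ (∀ a ∈ J, a • g = 0) ∧ (∀ k : ℕ, u ^ k • g ≠ 0) ∧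
      ∃ s : Finset B, Algebra.adjoin R (s : Set B) = ⊤ ∧
        ∀ x ∈ s, ∃ P : R[X], P.leadingCoeff ∣ u ∧ aeval x P ∈ J.map (algebraMap R B) := by
  classical
  let P := Algebra.Presentation.ofFinitePresentation R B
  let R₀ := P.Core
  haveI : IsNoetherianRing R₀ := Algebra.FiniteType.isNoetherianRing ℤ R₀
  let B₀ := P.ModelOfHasCoeffs R₀
  let e : R ⊗[R₀] B₀ ≃ₐ[R] B := P.tensorModelOfHasCoeffsEquiv R₀
  let J₀ : Ideal R₀ := LinearMap.ker (LinearMap.toSpanSingleton R₀ B g)
  have hJ₀ : ∀ c : R₀, c ∈ J₀ ↔ algebraMap R₀ R c • g = 0 := fun c => by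
    simp [J₀]
  have hJtop : J₀ ≠ ⊤ := fun h => hg (by simpa using (hJ₀ 1).mp (h ▸ trivial))
  obtain ⟨p₀, hp₀⟩ := Ideal.nonempty_minimalPrimes hJtop
  haveI := hp₀.1.1
  obtain ⟨p, hp, hJp, hpdis⟩ := Ideal.exists_le_prime_disjoint (J₀.map (algebraMap R₀ R))
    (p₀.primeCompl.map (algebraMap R₀ R)) (Set.disjoint_left.mpr fun z hz hz' => by
      obtain ⟨c, hc, rfl⟩ := hz'
      refine hc (hp₀.1.2 ((hJ₀ c).mpr ?_))
      have hle : J₀.map (algebraMap R₀ R) ≤ LinearMap.ker (LinearMap.toSpanSingleton R B g) :=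
        Ideal.map_le_iff_le_comap.mpr fun d hd => (hJ₀ d).mp hd
      exact hle hz)
  have hpc : p.comap (algebraMap R₀ R) = p₀ := by
    have hle : p.comap (algebraMap R₀ R) ≤ p₀ := fun c hc => by_contra fun h =>
      Set.disjoint_left.mp hpdis hc ⟨c, h, rfl⟩
    exact le_antisymm hle (hp₀.2 ⟨inferInstance, Ideal.map_le_iff_le_comap.mp hJp⟩ hle)
  haveI : Module.Finite p₀.ResidueField (p₀.Fiber B₀) := by
    letI := (Ideal.ResidueField.map p₀ p (algebraMap R₀ R) hpc.symm).toAlgebra
    haveI : IsScalarTower R₀ p₀.ResidueField p.ResidueField := .of_algebraMap_eq fun c => by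
      rw [RingHom.algebraMap_toAlgebra, Ideal.ResidueField.map_algebraMap, ← IsScalarTower.algebraMap_apply]
    haveI : Module.Finite p.ResidueField (p.Fiber B) := inferInstance
    let e1 : p.ResidueField ⊗[p₀.ResidueField] p₀.Fiber B₀ ≃ₗ[p.ResidueField] p.Fiber B :=
      (TensorProduct.AlgebraTensorModule.cancelBaseChange R₀ p₀.ResidueField p.ResidueField p.ResidueField B₀).trans
        ((TensorProduct.AlgebraTensorModule.cancelBaseChange R₀ R p.ResidueField p.ResidueField B₀).symm.trans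
          (TensorProduct.AlgebraTensorModule.congr (LinearEquiv.refl p.ResidueField p.ResidueField) e.toLinearEquiv))
    haveI : Module.Finite p.ResidueField (p.ResidueField ⊗[p₀.ResidueField] p₀.Fiber B₀) :=
      Module.Finite.equiv e1.symm
    exact Module.Finite.of_finite_tensorProduct_of_faithfullyFlat p.ResidueField
  obtain ⟨s₀, hs₀⟩ := (inferInstance : Algebra.FiniteType R₀ B₀).out
  choose Q hQlc hQmem using fun x : B₀ => exists_poly_aeval_mem p₀ J₀ hp₀ x
  let ι : B₀ →ₐ[R₀] B := (e.toAlgHom.restrictScalars R₀).comp Algebra.TensorProduct.includeRight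
  refine ⟨J₀.map (algebraMap R₀ R), algebraMap R₀ R (∏ x ∈ s₀, (Q x).leadingCoeff),
    Ideal.FG.map (IsNoetherian.noetherian J₀) _, fun a ha => ?_, fun k hk => ?_, s₀.image ι, ?_, ?_⟩
  · have hle : J₀.map (algebraMap R₀ R) ≤ LinearMap.ker (LinearMap.toSpanSingleton R B g) :=
      Ideal.map_le_iff_le_comap.mpr fun d hd => (hJ₀ d).mp hd
    exact hle ha
  · rw [← map_pow] at hk
    obtain ⟨x, hx, hxp⟩ := (Ideal.IsPrime.prod_mem_iff (p := p₀)).mp
      (hp₀.1.1.mem_of_pow_mem k (hp₀.1.2 ((hJ₀ _).mpr hk)))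
    exact hQlc x hxp
  · rw [Finset.coe_image, eq_top_iff]
    rintro b -
    obtain ⟨z, rfl⟩ := e.surjective b
    induction z using TensorProduct.induction_on with
    | zero => rw [map_zero]; exact zero_mem _
    | add _ _ h h' => rw [map_add]; exact add_mem h h'
    | tmul r y =>
      rw [show r ⊗ₜ[R₀] y = r • ((1 : R) ⊗ₜ[R₀] y) by rw [smul_tmul', smul_eq_mul, mul_one], map_smul]
      refine Subalgebra.smul_mem _ ?_ r
      have hy : y ∈ Algebra.adjoin R₀ (s₀ : Set B₀) := hs₀ ▸ trivial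
      have h := (ι.map_adjoin (s₀ : Set B₀)).le ⟨y, hy, rfl⟩
      exact Algebra.adjoin_le (S := (Algebra.adjoin R (ι '' s₀)).restrictScalars R₀) Algebra.subset_adjoin h
  · intro x hx
    obtain ⟨y, hy, rfl⟩ := Finset.mem_image.mp hx
    refine ⟨(Q y).map (algebraMap R₀ R), ?_, ?_⟩
    · refine dvd_trans (dvd_of_eq ?_) (map_dvd _ (Finset.dvd_prod_of_mem _ hy))
      refine leadingCoeff_map_of_leadingCoeff_ne_zero _ fun h => hQlc y ?_
      rw [← hpc, Ideal.mem_comap, h]
      exact zero_mem _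
    · rw [aeval_map_algebraMap, Ideal.map_map, ← IsScalarTower.algebraMap_eq, aeval_algHom_apply]
      rw [show algebraMap R₀ B = (ι : B₀ →+* B).comp (algebraMap R₀ B₀) from ι.comp_algebraMap.symm, ← Ideal.map_map]
      exact Ideal.mem_map_of_mem (ι : B₀ →+* B) (hQmem y)

/-- Finiteness once the leading coefficients are units. -/
theorem finite_quotient_of_polys (J : Ideal R) (s : Set B) (hs : s.Finite) (hgen : Algebra.adjoin R s = ⊤)
    (h : ∀ x ∈ s, ∃ P : R[X], IsUnit P.leadingCoeff ∧ aeval x P ∈ J.map (algebraMap R B)) :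
    Module.Finite (R ⧸ J) (B ⧸ J.map (algebraMap R B)) := by
  let π : B →ₐ[R] B ⧸ J.map (algebraMap R B) := Ideal.Quotient.mkₐ R _
  suffices Module.Finite R (B ⧸ J.map (algebraMap R B)) from Module.Finite.of_restrictScalars_finite R _ _
  refine ⟨?_⟩
  have htop : Algebra.adjoin R (π '' s) = ⊤ := by
    rw [← AlgHom.map_adjoin, hgen, Algebra.map_top]
    exact (AlgHom.range_eq_top π).mpr Ideal.Quotient.mk_surjective
  rw [← Algebra.top_toSubmodule, ← htop]
  refine fg_adjoin_of_finite (hs.image _) ?_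
  rintro _ ⟨x, hx, rfl⟩
  obtain ⟨P, hP, hPx⟩ := h x hx
  refine ⟨C ↑hP.unit⁻¹ * P, monic_C_mul_of_mul_leadingCoeff_eq_one hP.val_inv_mul, ?_⟩
  rw [← aeval_def, aeval_algHom_apply, map_mul, map_mul, show π (aeval x P) = 0 from Ideal.Quotient.eq_zero_iff_mem.mpr hPx,
    mul_zero]

/-- Locally on the base, `B/JB` is free: elementwise form. -/
theorem exists_elementwise_basis [Module.Flat R B] [Algebra.FinitePresentation R B] (J : Ideal R) (g : B)
    (hJg : ∀ a ∈ J, a • g = 0) (hg : g ≠ 0) [Module.Finite (R ⧸ J) (B ⧸ J.map (algebraMap R B))] :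
    ∃ (w : R) (r : ℕ) (e : Fin r → B), (∀ k : ℕ, w ^ k • g ≠ 0) ∧
      (∀ b, ∃ (k : ℕ) (a : Fin r → R), w ^ k • b - ∑ i, a i • e i ∈ J.map (algebraMap R B)) ∧
      (∀ a : Fin r → R, ∑ i, a i • e i ∈ J.map (algebraMap R B) → ∀ i, ∃ k, w ^ k * a i ∈ J) := by
  classical
  let A := R ⧸ J
  let M := B ⧸ J.map (algebraMap R B)
  let eM : A ⊗[R] B ≃ₐ[A] M := (Algebra.TensorProduct.quotIdealMapEquivQuotTensor B J).symm
  haveI : Module.Flat A M := .of_linearEquiv eM.symm.toLinearEquiv
  haveI : Algebra.FinitePresentation A M := .equiv eM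
  haveI : Module.FinitePresentation A M := Module.FinitePresentation.of_finite_of_finitePresentation A M
  let N : Ideal R := LinearMap.ker (LinearMap.toSpanSingleton R B g)
  obtain ⟨q, hq, hNq⟩ := Ideal.exists_le_maximal N (fun h => hg (by
    have : (1 : R) ∈ N := h ▸ trivial
    simpa [N] using this))
  have hJq : J ≤ q := fun a ha => hNq (hJg a ha)
  let qb : Ideal A := q.map (Ideal.Quotient.mk J)
  haveI : qb.IsPrime := Ideal.map_isPrime_of_surjective Ideal.Quotient.mk_surjective (by rwa [Ideal.mk_ker])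
  let Aq := Localization qb.primeCompl
  let Mq := LocalizedModule qb.primeCompl M
  let fM : M →ₗ[A] Mq := LocalizedModule.mkLinearMap qb.primeCompl M
  haveI : Module.Finite Aq Mq := inferInstance
  haveI : Module.Flat Aq Mq := inferInstance
  haveI : Module.Free Aq Mq := Module.free_of_flat_of_isLocalRing
  let bq := Module.finBasis Aq Mq
  choose es hes using fun i => IsLocalizedModule.surj qb.primeCompl fM (bq i)
  let b' := bq.isUnitSMul (fun i => IsLocalization.map_units Aq (es i).2)
  let ψ : (Fin (Module.finrank Aq Mq) → A) →ₗ[A] M := Fintype.linearCombination A fun i => (es i).1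
  let fA : (Fin (Module.finrank Aq Mq) → A) →ₗ[A] (Fin (Module.finrank Aq Mq) → Aq) :=
    .pi fun i => (Algebra.linearMap A Aq) ∘ₗ .proj i
  have hψ : Function.Bijective (IsLocalizedModule.map qb.primeCompl fA fM ψ) := by
    have : IsLocalizedModule.map qb.primeCompl fA fM ψ = b'.equivFun.symm.toLinearMap.restrictScalars A := by
      refine IsLocalizedModule.linearMap_ext qb.primeCompl fA fM ?_
      rw [IsLocalizedModule.map_comp]
      refine LinearMap.ext fun a => ?_
      have he : ∀ i, b' i = fM (es i).1 := fun i => by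
        rw [← hes i]
        simp [b', Module.Basis.isUnitSMul_apply, algebraMap_smul, Submonoid.smul_def]
      simp [fA, ψ, Fintype.linearCombination_apply, Module.Basis.equivFun_symm_apply, he, algebraMap_smul]
    rw [this]
    exact b'.equivFun.symm.bijective
  obtain ⟨wb, hwb, hbij⟩ := Module.FinitePresentation.exists_notMem_bijective ψ qb fA fM hψ
  obtain ⟨w, rfl⟩ := Ideal.Quotient.mk_surjective wb
  choose e he using fun i => Ideal.Quotient.mk_surjective (es i).1
  have hψe : ∀ a : Fin (Module.finrank Aq Mq) → R,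
      ψ (fun i => Ideal.Quotient.mk J (a i)) = Ideal.Quotient.mk _ (∑ i, a i • e i) := fun a => by
    simp only [ψ, Fintype.linearCombination_apply, map_sum, ← he]
    rfl
  have hpow : ∀ (k : ℕ) (b : B), (Ideal.Quotient.mk J w ^ k) • (Ideal.Quotient.mk (J.map (algebraMap R B)) b) =
      Ideal.Quotient.mk _ (w ^ k • b) := fun k b => by rw [← map_pow]; rfl
  refine ⟨w, _, e, fun k hk => hwb ?_, fun b => ?_, fun a ha i => ?_⟩
  · exact Ideal.mem_map_of_mem _ (hq.isPrime.mem_of_pow_mem k (hNq hk))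
  · obtain ⟨y, hy⟩ := hbij.2 (LocalizedModule.mk (Ideal.Quotient.mk _ b) 1)
    induction y using LocalizedModule.induction_on with | h a sk =>
    obtain ⟨_, k, rfl⟩ := sk
    simp only [LocalizedModule.map_mk] at hy
    obtain ⟨⟨_, l, rfl⟩, hl⟩ := LocalizedModule.mk_eq.mp hy
    choose a' ha' using fun i => Ideal.Quotient.mk_surjective (a i)
    obtain rfl : (fun i => Ideal.Quotient.mk J (a' i)) = a := funext ha'
    refine ⟨l + k, fun i => w ^ l * a' i, ?_⟩
    rw [← Ideal.Quotient.eq]
    simp only [Submonoid.smul_def, OneMemClass.coe_one, one_smul, hψe, hpow] at hl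
    simp only [pow_add, ← smul_smul, ← Finset.smul_sum]
    exact hl.symm
  · have h0 : LocalizedModule.map (Submonoid.powers (Ideal.Quotient.mk J w)) ψ
        (LocalizedModule.mk (fun i => Ideal.Quotient.mk J (a i)) 1) = 0 := by
      rw [LocalizedModule.map_mk, hψe, Ideal.Quotient.eq_zero_iff_mem.mpr ha, LocalizedModule.zero_mk]
    have := hbij.1 (h0.trans (map_zero _).symm)
    rw [← LocalizedModule.zero_mk 1] at this
    obtain ⟨⟨_, l, rfl⟩, hl⟩ := LocalizedModule.mk_eq.mp this
    refine ⟨l, Ideal.Quotient.eq_zero_iff_mem.mp ?_⟩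
    simpa [Submonoid.smul_def] using congrFun hl i

/-- The map from `F^r`, `F` the annihilator of `J`. -/
theorem exists_injective_pi_map [Module.Flat R B] (J : Ideal R) (hJ : J.FG) (g : B)
    (hJg : ∀ a ∈ J, a • g = 0) (hg : g ≠ 0) {r : ℕ} (e : Fin r → B)
    (hsurj : ∀ b, ∃ a : Fin r → R, b - ∑ i, a i • e i ∈ J.map (algebraMap R B))
    (hinj : ∀ a : Fin r → R, ∑ i, a i • e i ∈ J.map (algebraMap R B) → ∀ i, a i ∈ J) :
    ∃ (F : Ideal R) (r : ℕ), 0 < r ∧
      ∃ φ : (Fin r → F) →ₗ[R] B, Function.Injective φ ∧ g ∈ LinearMap.range φ := by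
  classical
  obtain ⟨m, js, hjs⟩ := Submodule.fg_iff_exists_fin_generating_family.mp hJ
  let δ : R →ₗ[R] (Fin m → R) := LinearMap.pi fun k => LinearMap.mulLeft R (js k)
  let F : Ideal R := LinearMap.ker δ
  have hF : ∀ a ∈ F, ∀ j ∈ J, j * a = 0 := by
    intro a ha j hj
    rw [← hjs] at hj
    induction hj using Submodule.span_induction with
    | mem x hx => obtain ⟨k, rfl⟩ := hx; exact congrFun (LinearMap.mem_ker.mp ha) k
    | zero => exact zero_mul a
    | add x y _ _ hx hy => rw [add_mul, hx, hy, add_zero]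
    | smul c x _ hx => rw [smul_eq_mul, mul_assoc, hx, mul_zero]
  choose co hco using hsurj
  have huniq : ∀ (b : B) (c : Fin r → R), b - ∑ i, c i • e i ∈ J.map (algebraMap R B) → ∀ (a : F) i,
      c i • a = co b i • a := by
    intro b c hc a i
    rw [← sub_eq_zero, ← sub_smul]
    refine Subtype.ext (hF a a.2 _ (hinj (c - co b) ?_ i))
    simp only [Pi.sub_apply, sub_smul, Finset.sum_sub_distrib]
    have := Ideal.sub_mem _ (hco b) hc
    rwa [sub_sub_sub_cancel_left] at this
  let Θ : B ⊗[R] F →ₗ[R] (Fin r → F) := TensorProduct.lift (LinearMap.mk₂ R (fun b a i => co b i • a)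
    (fun b b' a => funext fun i => by
      show _ = co b i • a + co b' i • a
      rw [← add_smul]
      refine (huniq (b + b') (fun i => co b i + co b' i) ?_ a i).symm
      simp only [add_smul, Finset.sum_add_distrib, add_sub_add_comm]
      exact Ideal.add_mem _ (hco b) (hco b'))
    (fun c b a => funext fun i => by
      show _ = c • co b i • a
      rw [smul_smul]
      refine (huniq (c • b) (fun i => c * co b i) ?_ a i).symm
      simp only [mul_smul, ← Finset.smul_sum, ← smul_sub]
      exact Submodule.smul_of_tower_mem _ c (hco b))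
    (fun b a a' => funext fun i => smul_add _ _ _) (fun c b a => funext fun i => smul_comm _ _ _))
  let φ : (Fin r → F) →ₗ[R] B := ∑ i, LinearMap.smulRight (F.subtype ∘ₗ LinearMap.proj i) (e i)
  let μ : B ⊗[R] F →ₗ[R] B := (TensorProduct.rid R B).toLinearMap ∘ₗ LinearMap.lTensor B F.subtype
  have hμ : Function.Injective μ :=
    (TensorProduct.rid R B).injective.comp (Module.Flat.lTensor_preserves_injective_linearMap _ Subtype.val_injective)
  have hφΘ : ∀ z, φ (Θ z) = μ z := by
    intro z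
    induction z using TensorProduct.induction_on with
    | zero => simp
    | add x y hx hy => simp [hx, hy]
    | tmul b a =>
      suffices ∀ z ∈ J.map (algebraMap R B), (a : R) • z = 0 by
        have h := this _ (hco b)
        rw [smul_sub, sub_eq_zero, Finset.smul_sum] at h
        simpa [φ, Θ, μ, h, smul_smul, mul_comm] using rfl
      intro z hz
      induction hz using Submodule.span_induction with
      | mem x hx =>
        obtain ⟨j, hj, rfl⟩ := hx
        rw [Algebra.smul_def, ← map_mul, mul_comm, hF a a.2 j hj, map_zero]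
      | zero => exact smul_zero _
      | add x y _ _ hx hy => rw [smul_add, hx, hy, add_zero]
      | smul c x _ hx => rw [smul_eq_mul, ← mul_smul_comm, hx, mul_zero]
  have hΘ : ∀ a : Fin r → F, Θ (∑ i, e i ⊗ₜ[R] a i) = a := by
    intro a
    have hc : ∀ i k, co (e i) k • a i = if k = i then a i else 0 := fun i k => by
      rw [← huniq (e i) (Pi.single i 1) ?_ (a i) k]
      · rcases eq_or_ne k i with rfl | h <;> simp [*]
      · simp [Pi.single_apply]
    ext k
    simp [Θ, hc]
  have hinjφ : Function.Injective φ := fun a a' h => by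
    rw [← hΘ a, ← hΘ a'] at h ⊢
    rw [hφΘ, hφΘ] at h
    rw [hμ h]
  have hex := Module.Flat.lTensor_exact B (LinearMap.exact_subtype_ker_map δ)
  have hg1 : LinearMap.lTensor B δ (g ⊗ₜ[R] 1) = 0 := by
    have : δ 1 = ∑ k, js k • (Pi.single k (1 : R) : Fin m → R) := by
      ext k; simp [δ, Finset.sum_apply, Pi.single_apply]
    rw [LinearMap.lTensor_tmul, this, tmul_sum]
    refine Finset.sum_eq_zero fun k _ => ?_
    rw [← smul_tmul, hJg _ (hjs ▸ Submodule.subset_span ⟨k, rfl⟩), zero_tmul]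
  obtain ⟨z, hz⟩ := (hex _).mp hg1
  have hgμ : μ z = g := by simp only [μ, LinearMap.comp_apply]; rw [hz]; simp
  refine ⟨F, r, Nat.pos_of_ne_zero fun hr => hg ?_, φ, hinjφ, Θ z, (hφΘ z).trans hgμ⟩
  subst hr
  rw [← hgμ, ← hφΘ, Subsingleton.elim (Θ z) 0, map_zero]

end Groth.Agent.SectTF
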