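import Mathlib
import Groth.Agent.SectTF.Alg

/-!
# Localisation step for `SectTF.Alg`
-/

universe u

namespace Groth.Agent.SectTF

open Polynomial

variable {R B R' B' : Type u} [CommRing R] [CommRing B] [CommRing R'] [CommRing B'] [Algebra R B]
  [Algebra R R'] [Algebra R B'] [Algebra B B'] [Algebra R' B'] [IsScalarTower R B B'] [IsScalarTower R R' B']
  (w : R) [IsLocalization.Away w R'] [IsLocalization.Away (algebraMap R B w) B']

/-- `g` survives localisation. -/
theorem algebraMap_ne_zero {g : B} (hg : ∀ k : ℕ, w ^ k • g ≠ 0) : algebraMap B B' g ≠ 0 := by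
  intro h
  obtain ⟨⟨_, k, rfl⟩, hk⟩ :=
    (IsLocalization.map_eq_zero_iff (Submonoid.powers (algebraMap R B w)) B' g).mp h
  exact hg k (by simpa [Algebra.smul_def] using hk)

omit [IsLocalization.Away (algebraMap R B w) B'] in
include w in
/-- An ideal killing `g` still does so. -/
theorem smul_algebraMap_eq_zero {J : Ideal R} {g : B} (hJg : ∀ a ∈ J, a • g = 0) :
    ∀ a ∈ J.map (algebraMap R R'), a • algebraMap B B' g = 0 := by
  intro a ha
  induction ha using Submodule.span_induction with
  | mem x hx =>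
    obtain ⟨j, hj, rfl⟩ := hx
    rw [algebraMap_smul]
    rw [Algebra.smul_def, IsScalarTower.algebraMap_apply R B B', ← map_mul, ← Algebra.smul_def, hJg j hj,
      map_zero]
  | zero => exact zero_smul _ _
  | add x y _ _ hx hy => rw [add_smul, hx, hy, add_zero]
  | smul c x _ hx => rw [smul_eq_mul, mul_smul, hx, smul_zero]

/-- Every element of `B'` is a unit multiple from `R'` of an element of `B`. -/
theorem exists_eq_smul (b' : B') : ∃ (k : ℕ) (v : R') (b : B), algebraMap R R' w ^ k * v = 1 ∧
    b' = v • algebraMap B B' b := by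
  obtain ⟨⟨b, ⟨_, k, rfl⟩⟩, hb⟩ := IsLocalization.surj (Submonoid.powers (algebraMap R B w)) b'
  have hu : IsUnit (algebraMap R R' w ^ k) := (IsLocalization.Away.algebraMap_isUnit w).pow k
  refine ⟨k, ↑hu.unit⁻¹, b, hu.mul_val_inv, ?_⟩
  rw [← hb]
  simp only [map_pow, ← IsScalarTower.algebraMap_apply R B B', IsScalarTower.algebraMap_apply R R' B']
  have h1 : algebraMap R' B' ↑hu.unit⁻¹ * algebraMap R' B' (algebraMap R R' w ^ k) = 1 := by
    rw [← map_mul, hu.val_inv_mul, map_one]
  rw [Algebra.smul_def, mul_left_comm, ← map_pow (algebraMap R' B'), h1, mul_one]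

omit [IsLocalization.Away w R'] [IsLocalization.Away (algebraMap R B w) B'] in
/-- Extended ideals map into each other. -/
theorem algebraMap_mem_map {J : Ideal R} {b : B} (hb : b ∈ J.map (algebraMap R B)) :
    algebraMap B B' b ∈ (J.map (algebraMap R R')).map (algebraMap R' B') := by
  rw [Ideal.map_map, ← IsScalarTower.algebraMap_eq, IsScalarTower.algebraMap_eq R B B', ← Ideal.map_map]
  exact Ideal.mem_map_of_mem _ hb

/-- Finiteness of `B'/J'B'`. -/
theorem finite_quotient_of_localization [Nontrivial B'] (J : Ideal R) (s : Finset B)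
    (hs : Algebra.adjoin R (s : Set B) = ⊤)
    (h : ∀ x ∈ s, ∃ P : R[X], P.leadingCoeff ∣ w ∧ aeval x P ∈ J.map (algebraMap R B)) :
    Module.Finite (R' ⧸ J.map (algebraMap R R')) (B' ⧸ (J.map (algebraMap R R')).map (algebraMap R' B')) := by
  classical
  haveI : Nontrivial R' := (algebraMap R' B').domain_nontrivial
  refine finite_quotient_of_polys _ (algebraMap B B' '' s) (s.finite_toSet.image _) ?_ ?_
  · rw [eq_top_iff]
    rintro b' -
    obtain ⟨k, v, b, -, rfl⟩ := exists_eq_smul (B := B) (R' := R') w b'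
    refine Subalgebra.smul_mem _ ?_ v
    have hb : b ∈ Algebra.adjoin R (s : Set B) := hs ▸ trivial
    have h := ((IsScalarTower.toAlgHom R B B').map_adjoin (s : Set B)).le ⟨b, hb, rfl⟩
    exact Algebra.adjoin_le (S := (Algebra.adjoin R' (algebraMap B B' '' s)).restrictScalars R)
      Algebra.subset_adjoin h
  · rintro _ ⟨x, hx, rfl⟩
    obtain ⟨P, hP, hPx⟩ := h x hx
    have hu : IsUnit (algebraMap R R' P.leadingCoeff) :=
      isUnit_of_dvd_unit (map_dvd _ hP) (IsLocalization.Away.algebraMap_isUnit w)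
    refine ⟨P.map (algebraMap R R'), ?_, ?_⟩
    · rwa [leadingCoeff_map_of_leadingCoeff_ne_zero _ hu.ne_zero]
    · rw [aeval_map_algebraMap, aeval_algebraMap_apply]
      exact algebraMap_mem_map hPx

/-- The elementwise basis becomes a basis. -/
theorem basis_of_localization {J : Ideal R} {r : ℕ} (e : Fin r → B)
    (hsurj : ∀ b, ∃ (k : ℕ) (a : Fin r → R), w ^ k • b - ∑ i, a i • e i ∈ J.map (algebraMap R B))
    (hinj : ∀ a : Fin r → R, ∑ i, a i • e i ∈ J.map (algebraMap R B) → ∀ i, ∃ k, w ^ k * a i ∈ J) :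
    (∀ b' : B', ∃ a : Fin r → R', b' - ∑ i, a i • algebraMap B B' (e i) ∈
        (J.map (algebraMap R R')).map (algebraMap R' B')) ∧
    (∀ a : Fin r → R', ∑ i, a i • algebraMap B B' (e i) ∈ (J.map (algebraMap R R')).map (algebraMap R' B') →
      ∀ i, a i ∈ J.map (algebraMap R R')) := by
  classical
  have hsum : ∀ a : Fin r → R, algebraMap B B' (∑ i, a i • e i) =
      ∑ i, algebraMap R R' (a i) • algebraMap B B' (e i) := fun a => by
    simp [map_sum, Algebra.smul_def, ← IsScalarTower.algebraMap_apply]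
  constructor
  · intro b'
    obtain ⟨k, v, b, -, rfl⟩ := exists_eq_smul (B := B) (R' := R') w b'
    obtain ⟨l, a, ha⟩ := hsurj b
    have hu : IsUnit (algebraMap R R' w ^ l) := (IsLocalization.Away.algebraMap_isUnit w).pow l
    refine ⟨fun i => (v * ↑hu.unit⁻¹) * algebraMap R R' (a i), ?_⟩
    have h := Submodule.smul_of_tower_mem _ (v * ↑hu.unit⁻¹ : R') (algebraMap_mem_map (R' := R') (B' := B') ha)
    rw [map_sub, hsum, smul_sub, Finset.smul_sum] at h
    have h1 : (v * ↑hu.unit⁻¹ : R') • algebraMap B B' (w ^ l • b) = v • algebraMap B B' b := by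
      rw [Algebra.smul_def (w ^ l) b, map_mul, ← IsScalarTower.algebraMap_apply, IsScalarTower.algebraMap_apply R R' B',
        ← Algebra.smul_def, smul_smul, map_pow, mul_assoc, hu.val_inv_mul, mul_one]
    rw [h1] at h
    simp only [mul_smul, algebraMap_smul] at h ⊢
    exact h
  · intro a ha i
    obtain ⟨⟨_, k, rfl⟩, hk⟩ := IsLocalization.exist_integer_multiples_of_finite (Submonoid.powers w) a
    choose a₀ ha₀ using hk
    have ha' : algebraMap B B' (∑ i, a₀ i • e i) ∈ (J.map (algebraMap R B)).map (algebraMap B B') := by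
      rw [Ideal.map_map, ← IsScalarTower.algebraMap_eq, IsScalarTower.algebraMap_eq R R' B', ← Ideal.map_map, hsum]
      have := Submodule.smul_of_tower_mem _ (algebraMap R R' (w ^ k)) ha
      rw [Finset.smul_sum] at this
      convert this using 1
      refine Finset.sum_congr rfl fun j _ => ?_
      rw [smul_smul, ha₀ j, Algebra.smul_def]
      simp [Algebra.smul_def, map_pow]
    obtain ⟨_, ⟨l, rfl⟩, hl⟩ :=
      (IsLocalization.algebraMap_mem_map_algebraMap_iff (Submonoid.powers (algebraMap R B w)) B' _ _).mp ha'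
    have hl' : ∑ j, (w ^ l * a₀ j) • e j ∈ J.map (algebraMap R B) := by
      simp only [mul_smul, ← Finset.smul_sum, Algebra.smul_def (w ^ l), map_pow, ← Finset.mul_sum]
      exact hl
    obtain ⟨m, hm⟩ := hinj _ hl' i
    have h1 := Ideal.mem_map_of_mem (algebraMap R R') hm
    rw [map_mul, map_mul, ha₀ i, Algebra.smul_def] at h1
    have hu : ∀ n : ℕ, IsUnit (algebraMap R R' (w ^ n)) := fun n => by
      rw [map_pow]; exact (IsLocalization.Away.algebraMap_isUnit w).pow n
    rwa [Ideal.unit_mul_mem_iff_mem _ (hu m), Ideal.unit_mul_mem_iff_mem _ (hu l),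
      Ideal.unit_mul_mem_iff_mem _ (hu k)] at h1

end Groth.Agent.SectTF
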