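import Mathlib
import Groth.Agent.SectTF.Loc

/-!
# Sections of flat locally quasi-finite morphisms
-/

universe u

open CategoryTheory AlgebraicGeometry TopologicalSpace

namespace Groth.Agent.SectTF

variable {X S : Scheme.{u}} (f : X ⟶ S)

/-- Compatibility of `appLE` with restrictions. -/
theorem appLE_res {U U' : S.Opens} {V V' : X.Opens} (e : V ≤ f ⁻¹ᵁ U) (e' : V' ≤ f ⁻¹ᵁ U') (hU : U' ≤ U)
    (hV : V' ≤ V) (a : Γ(S, U)) :
    f.appLE U' V' e' (S.presheaf.map (homOfLE hU).op a) = X.presheaf.map (homOfLE hV).op (f.appLE U V e a) := by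
  rw [← CommRingCat.comp_apply, ← CommRingCat.comp_apply, Scheme.Hom.map_appLE, Scheme.Hom.appLE_map]

variable [Flat f] [LocallyOfFinitePresentation f] [LocallyQuasiFinite f]

/-- After shrinking, there is an ideal with finite quotient killing `g`. -/
theorem exists_step_finite {U : S.Opens} (hU : IsAffineOpen U) {V : X.Opens} (hV : IsAffineOpen V)
    (hVU : V ≤ f ⁻¹ᵁ U) (g : Γ(X, V)) (hg : g ≠ 0) :
    ∃ (U' : S.Opens) (_ : IsAffineOpen U') (V' : X.Opens) (_ : IsAffineOpen V') (hVU' : V' ≤ f ⁻¹ᵁ U') (hle : V' ≤ V),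
      X.presheaf.map (homOfLE hle).op g ≠ 0 ∧
      letI := (f.appLE U' V' hVU').hom.toAlgebra
      ∃ J : Ideal Γ(S, U'), J.FG ∧ (∀ a ∈ J, a • X.presheaf.map (homOfLE hle).op g = 0) ∧
        Module.Finite (Γ(S, U') ⧸ J) (Γ(X, V') ⧸ J.map (algebraMap Γ(S, U') Γ(X, V'))) := by
  letI := (f.appLE U V hVU).hom.toAlgebra
  haveI : Algebra.FinitePresentation Γ(S, U) Γ(X, V) := f.finitePresentation_appLE hU hV hVU
  haveI : Algebra.QuasiFinite Γ(S, U) Γ(X, V) := LocallyQuasiFinite.quasiFinite_appLE hU hV hVU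
  obtain ⟨J, w, hJ, hJg, hwg, s, hs, hP⟩ := exists_ideal_and_polys (R := Γ(S, U)) g hg
  let U' := S.basicOpen w
  let V' := X.basicOpen (f.appLE U V hVU w)
  have hVU' : V' ≤ f ⁻¹ᵁ U' := by simp [V', U', Scheme.Hom.appLE]
  letI := (f.appLE U' V' hVU').hom.toAlgebra
  letI : Algebra Γ(S, U) Γ(S, U') := (S.presheaf.map (homOfLE (S.basicOpen_le w)).op).hom.toAlgebra
  letI : Algebra Γ(X, V) Γ(X, V') := (X.presheaf.map (homOfLE (X.basicOpen_le _)).op).hom.toAlgebra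
  letI : Algebra Γ(S, U) Γ(X, V') := ((algebraMap Γ(X, V) Γ(X, V')).comp (algebraMap Γ(S, U) Γ(X, V))).toAlgebra
  haveI : IsScalarTower Γ(S, U) Γ(X, V) Γ(X, V') := .of_algebraMap_eq' rfl
  haveI : IsScalarTower Γ(S, U) Γ(S, U') Γ(X, V') :=
    .of_algebraMap_eq fun a => (appLE_res f hVU hVU' (S.basicOpen_le w) (X.basicOpen_le _) a).symm
  haveI : IsLocalization.Away w Γ(S, U') := hU.isLocalization_basicOpen w
  haveI : IsLocalization.Away (algebraMap Γ(S, U) Γ(X, V) w) Γ(X, V') := hV.isLocalization_basicOpen _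
  have hne : algebraMap Γ(X, V) Γ(X, V') g ≠ 0 := algebraMap_ne_zero w hwg
  haveI : Nontrivial Γ(X, V') := ⟨_, _, hne⟩
  exact ⟨U', hU.basicOpen w, V', hV.basicOpen _, hVU', X.basicOpen_le _, hne, J.map (algebraMap Γ(S, U) Γ(S, U')),
    hJ.map _, smul_algebraMap_eq_zero (R' := Γ(S, U')) w hJg, finite_quotient_of_localization w J s hs hP⟩

/-- After shrinking further, `g` lies in the image of an injective map from a power of an ideal. -/
theorem exists_step_free {U : S.Opens} (hU : IsAffineOpen U) {V : X.Opens} (hV : IsAffineOpen V)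
    (hVU : V ≤ f ⁻¹ᵁ U) (g : Γ(X, V)) (hg : g ≠ 0) (J : Ideal Γ(S, U)) (hJ : J.FG)
    (hJg : letI := (f.appLE U V hVU).hom.toAlgebra; ∀ a ∈ J, a • g = 0)
    (hfin : letI := (f.appLE U V hVU).hom.toAlgebra;
      Module.Finite (Γ(S, U) ⧸ J) (Γ(X, V) ⧸ J.map (algebraMap Γ(S, U) Γ(X, V)))) :
    ∃ (U' : S.Opens) (_ : IsAffineOpen U') (V' : X.Opens) (_ : IsAffineOpen V') (hVU' : V' ≤ f ⁻¹ᵁ U') (hle : V' ≤ V),
      X.presheaf.map (homOfLE hle).op g ≠ 0 ∧
      letI := (f.appLE U' V' hVU').hom.toAlgebra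
      ∃ (F : Ideal Γ(S, U')) (r : ℕ), 0 < r ∧ ∃ φ : (Fin r → F) →ₗ[Γ(S, U')] Γ(X, V'),
        Function.Injective φ ∧ X.presheaf.map (homOfLE hle).op g ∈ LinearMap.range φ := by
  letI := (f.appLE U V hVU).hom.toAlgebra
  haveI : Algebra.FinitePresentation Γ(S, U) Γ(X, V) := f.finitePresentation_appLE hU hV hVU
  haveI : Module.Flat Γ(S, U) Γ(X, V) := f.flat_appLE hU hV hVU
  haveI := hfin
  obtain ⟨w, r, e, hwg, hsurj, hinj⟩ := exists_elementwise_basis (R := Γ(S, U)) J g hJg hg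
  let U' := S.basicOpen w
  let V' := X.basicOpen (f.appLE U V hVU w)
  have hVU' : V' ≤ f ⁻¹ᵁ U' := by simp [V', U', Scheme.Hom.appLE]
  letI := (f.appLE U' V' hVU').hom.toAlgebra
  haveI : Module.Flat Γ(S, U') Γ(X, V') := f.flat_appLE (hU.basicOpen w) (hV.basicOpen _) hVU'
  letI : Algebra Γ(S, U) Γ(S, U') := (S.presheaf.map (homOfLE (S.basicOpen_le w)).op).hom.toAlgebra
  letI : Algebra Γ(X, V) Γ(X, V') := (X.presheaf.map (homOfLE (X.basicOpen_le _)).op).hom.toAlgebra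
  letI : Algebra Γ(S, U) Γ(X, V') := ((algebraMap Γ(X, V) Γ(X, V')).comp (algebraMap Γ(S, U) Γ(X, V))).toAlgebra
  haveI : IsScalarTower Γ(S, U) Γ(X, V) Γ(X, V') := .of_algebraMap_eq' rfl
  haveI : IsScalarTower Γ(S, U) Γ(S, U') Γ(X, V') :=
    .of_algebraMap_eq fun a => (appLE_res f hVU hVU' (S.basicOpen_le w) (X.basicOpen_le _) a).symm
  haveI : IsLocalization.Away w Γ(S, U') := hU.isLocalization_basicOpen w
  haveI : IsLocalization.Away (algebraMap Γ(S, U) Γ(X, V) w) Γ(X, V') := hV.isLocalization_basicOpen _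
  have hne : algebraMap Γ(X, V) Γ(X, V') g ≠ 0 := algebraMap_ne_zero w hwg
  obtain ⟨h1, h2⟩ := basis_of_localization (R' := Γ(S, U')) (B' := Γ(X, V')) w e hsurj hinj
  exact ⟨U', hU.basicOpen w, V', hV.basicOpen _, hVU', X.basicOpen_le _, hne,
    exists_injective_pi_map _ (hJ.map _) _ (smul_algebraMap_eq_zero (R' := Γ(S, U')) w hJg) hne _ h1 h2⟩

/-- A nonzero global section is nonzero on an affine open lying over an affine open. -/
theorem exists_affine_ne_zero {X S : Scheme.{u}} (f : X ⟶ S) (g : Γ(X, ⊤)) (hg : g ≠ 0) :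
    ∃ (U : S.Opens) (_ : IsAffineOpen U) (V : X.Opens) (_ : IsAffineOpen V) (_ : V ≤ f ⁻¹ᵁ U),
      X.presheaf.map (homOfLE le_top).op g ≠ (0 : Γ(X, V)) := by
  by_contra hcon
  push Not at hcon
  have hx : ∀ x : X, ∃ (U : S.Opens) (_ : IsAffineOpen U) (V : X.Opens) (_ : IsAffineOpen V), x ∈ V ∧ V ≤ f ⁻¹ᵁ U := by
    intro x
    obtain ⟨U, hU, hxU, -⟩ := exists_isAffineOpen_mem_and_subset (U := (⊤ : S.Opens)) (x := f x) trivial
    obtain ⟨V, hV, hxV, hVU⟩ := exists_isAffineOpen_mem_and_subset (U := f ⁻¹ᵁ U) (x := x) hxU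
    exact ⟨U, hU, V, hV, hxV, hVU⟩
  choose U hU V hV hxV hVU using hx
  refine hg (X.sheaf.eq_of_locally_eq' V ⊤ (fun x => homOfLE le_top) (fun x _ => Opens.mem_iSup.mpr ⟨x, hxV x⟩) g 0
    fun x => ?_)
  show X.presheaf.map (homOfLE le_top).op g = X.presheaf.map (homOfLE le_top).op 0
  rw [hcon (U x) (hU x) (V x) (hV x) (hVU x), map_zero]

end Groth.Agent.SectTF
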